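import Cfsg.Agent.KC.R10.C0x11
import Cfsg.Agent.KC.R10.C1x11
import Cfsg.Agent.KC.R10.C2x10
import Cfsg.Agent.KC.R10.C3x11
import Cfsg.Agent.KC.R10.C4x11
import Cfsg.Agent.KC.R10.C5x10

namespace Cfsg.Agent.KC.R10

theorem s0x0 : ∀ l, l < 1 → run3 9 acc10 13 0 7 0 1 l = true
  | 0, _ => c0x0x0
  | _ + 1, h => absurd h (by omega)

theorem s0x1 : ∀ l, l < 1 → run3 9 acc10 13 0 7 1 1 l = true
  | 0, _ => c0x1x0
  | _ + 1, h => absurd h (by omega)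

theorem s0x2 : ∀ l, l < 1 → run3 9 acc10 13 0 7 2 1 l = true
  | 0, _ => c0x2x0
  | _ + 1, h => absurd h (by omega)

theorem s0x3 : ∀ l, l < 1 → run3 9 acc10 13 0 7 3 1 l = true
  | 0, _ => c0x3x0
  | _ + 1, h => absurd h (by omega)

theorem s0x4 : ∀ l, l < 1 → run3 9 acc10 13 0 7 4 1 l = true
  | 0, _ => c0x4x0
  | _ + 1, h => absurd h (by omega)

theorem s0x5 : ∀ l, l < 1 → run3 9 acc10 13 0 7 5 1 l = true
  | 0, _ => c0x5x0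
  | _ + 1, h => absurd h (by omega)

theorem s0x6 : ∀ l, l < 1 → run3 9 acc10 13 0 7 6 1 l = true
  | 0, _ => c0x6x0
  | _ + 1, h => absurd h (by omega)

theorem r0 : ∀ j, j < 7 → ∃ n3, 0 < n3 ∧ ∀ l, l < n3 → run3 9 acc10 13 0 7 j n3 l = true
  | 0, _ => ⟨1, by decide, s0x0⟩
  | 1, _ => ⟨1, by decide, s0x1⟩
  | 2, _ => ⟨1, by decide, s0x2⟩
  | 3, _ => ⟨1, by decide, s0x3⟩
  | 4, _ => ⟨1, by decide, s0x4⟩
  | 5, _ => ⟨1, by decide, s0x5⟩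
  | 6, _ => ⟨1, by decide, s0x6⟩
  | _ + 7, h => absurd h (by omega)

theorem s1x0 : ∀ l, l < 1 → run3 9 acc10 13 1 5 0 1 l = true
  | 0, _ => c1x0x0
  | _ + 1, h => absurd h (by omega)

theorem s1x1 : ∀ l, l < 1 → run3 9 acc10 13 1 5 1 1 l = true
  | 0, _ => c1x1x0
  | _ + 1, h => absurd h (by omega)

theorem s1x2 : ∀ l, l < 1 → run3 9 acc10 13 1 5 2 1 l = true
  | 0, _ => c1x2x0
  | _ + 1, h => absurd h (by omega)

theorem s1x3 : ∀ l, l < 1 → run3 9 acc10 13 1 5 3 1 l = true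
  | 0, _ => c1x3x0
  | _ + 1, h => absurd h (by omega)

theorem s1x4 : ∀ l, l < 1 → run3 9 acc10 13 1 5 4 1 l = true
  | 0, _ => c1x4x0
  | _ + 1, h => absurd h (by omega)

theorem r1 : ∀ j, j < 5 → ∃ n3, 0 < n3 ∧ ∀ l, l < n3 → run3 9 acc10 13 1 5 j n3 l = true
  | 0, _ => ⟨1, by decide, s1x0⟩
  | 1, _ => ⟨1, by decide, s1x1⟩
  | 2, _ => ⟨1, by decide, s1x2⟩
  | 3, _ => ⟨1, by decide, s1x3⟩
  | 4, _ => ⟨1, by decide, s1x4⟩
  | _ + 5, h => absurd h (by omega)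

theorem s2x0 : ∀ l, l < 1 → run3 9 acc10 13 2 7 0 1 l = true
  | 0, _ => c2x0x0
  | _ + 1, h => absurd h (by omega)

theorem s2x1 : ∀ l, l < 1 → run3 9 acc10 13 2 7 1 1 l = true
  | 0, _ => c2x1x0
  | _ + 1, h => absurd h (by omega)

theorem s2x2 : ∀ l, l < 1 → run3 9 acc10 13 2 7 2 1 l = true
  | 0, _ => c2x2x0
  | _ + 1, h => absurd h (by omega)

theorem s2x3 : ∀ l, l < 1 → run3 9 acc10 13 2 7 3 1 l = true
  | 0, _ => c2x3x0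
  | _ + 1, h => absurd h (by omega)

theorem s2x4 : ∀ l, l < 1 → run3 9 acc10 13 2 7 4 1 l = true
  | 0, _ => c2x4x0
  | _ + 1, h => absurd h (by omega)

theorem s2x5 : ∀ l, l < 1 → run3 9 acc10 13 2 7 5 1 l = true
  | 0, _ => c2x5x0
  | _ + 1, h => absurd h (by omega)

theorem s2x6 : ∀ l, l < 1 → run3 9 acc10 13 2 7 6 1 l = true
  | 0, _ => c2x6x0
  | _ + 1, h => absurd h (by omega)

theorem r2 : ∀ j, j < 7 → ∃ n3, 0 < n3 ∧ ∀ l, l < n3 → run3 9 acc10 13 2 7 j n3 l = true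
  | 0, _ => ⟨1, by decide, s2x0⟩
  | 1, _ => ⟨1, by decide, s2x1⟩
  | 2, _ => ⟨1, by decide, s2x2⟩
  | 3, _ => ⟨1, by decide, s2x3⟩
  | 4, _ => ⟨1, by decide, s2x4⟩
  | 5, _ => ⟨1, by decide, s2x5⟩
  | 6, _ => ⟨1, by decide, s2x6⟩
  | _ + 7, h => absurd h (by omega)

theorem s3x0 : ∀ l, l < 1 → run3 9 acc10 13 3 5 0 1 l = true
  | 0, _ => c3x0x0
  | _ + 1, h => absurd h (by omega)

theorem s3x1 : ∀ l, l < 1 → run3 9 acc10 13 3 5 1 1 l = true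
  | 0, _ => c3x1x0
  | _ + 1, h => absurd h (by omega)

theorem s3x2 : ∀ l, l < 1 → run3 9 acc10 13 3 5 2 1 l = true
  | 0, _ => c3x2x0
  | _ + 1, h => absurd h (by omega)

theorem s3x3 : ∀ l, l < 1 → run3 9 acc10 13 3 5 3 1 l = true
  | 0, _ => c3x3x0
  | _ + 1, h => absurd h (by omega)

theorem s3x4 : ∀ l, l < 1 → run3 9 acc10 13 3 5 4 1 l = true
  | 0, _ => c3x4x0
  | _ + 1, h => absurd h (by omega)

theorem r3 : ∀ j, j < 5 → ∃ n3, 0 < n3 ∧ ∀ l, l < n3 → run3 9 acc10 13 3 5 j n3 l = true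
  | 0, _ => ⟨1, by decide, s3x0⟩
  | 1, _ => ⟨1, by decide, s3x1⟩
  | 2, _ => ⟨1, by decide, s3x2⟩
  | 3, _ => ⟨1, by decide, s3x3⟩
  | 4, _ => ⟨1, by decide, s3x4⟩
  | _ + 5, h => absurd h (by omega)

theorem s4x0 : ∀ l, l < 1 → run3 9 acc10 13 4 7 0 1 l = true
  | 0, _ => c4x0x0
  | _ + 1, h => absurd h (by omega)

theorem s4x1 : ∀ l, l < 1 → run3 9 acc10 13 4 7 1 1 l = true
  | 0, _ => c4x1x0
  | _ + 1, h => absurd h (by omega)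

theorem s4x2 : ∀ l, l < 1 → run3 9 acc10 13 4 7 2 1 l = true
  | 0, _ => c4x2x0
  | _ + 1, h => absurd h (by omega)

theorem s4x3 : ∀ l, l < 1 → run3 9 acc10 13 4 7 3 1 l = true
  | 0, _ => c4x3x0
  | _ + 1, h => absurd h (by omega)

theorem s4x4 : ∀ l, l < 1 → run3 9 acc10 13 4 7 4 1 l = true
  | 0, _ => c4x4x0
  | _ + 1, h => absurd h (by omega)

theorem s4x5 : ∀ l, l < 1 → run3 9 acc10 13 4 7 5 1 l = true
  | 0, _ => c4x5x0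
  | _ + 1, h => absurd h (by omega)

theorem s4x6 : ∀ l, l < 1 → run3 9 acc10 13 4 7 6 1 l = true
  | 0, _ => c4x6x0
  | _ + 1, h => absurd h (by omega)

theorem r4 : ∀ j, j < 7 → ∃ n3, 0 < n3 ∧ ∀ l, l < n3 → run3 9 acc10 13 4 7 j n3 l = true
  | 0, _ => ⟨1, by decide, s4x0⟩
  | 1, _ => ⟨1, by decide, s4x1⟩
  | 2, _ => ⟨1, by decide, s4x2⟩
  | 3, _ => ⟨1, by decide, s4x3⟩
  | 4, _ => ⟨1, by decide, s4x4⟩
  | 5, _ => ⟨1, by decide, s4x5⟩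
  | 6, _ => ⟨1, by decide, s4x6⟩
  | _ + 7, h => absurd h (by omega)

theorem s5x0 : ∀ l, l < 1 → run3 9 acc10 13 5 5 0 1 l = true
  | 0, _ => c5x0x0
  | _ + 1, h => absurd h (by omega)

theorem s5x1 : ∀ l, l < 1 → run3 9 acc10 13 5 5 1 1 l = true
  | 0, _ => c5x1x0
  | _ + 1, h => absurd h (by omega)

theorem s5x2 : ∀ l, l < 1 → run3 9 acc10 13 5 5 2 1 l = true
  | 0, _ => c5x2x0
  | _ + 1, h => absurd h (by omega)

theorem s5x3 : ∀ l, l < 1 → run3 9 acc10 13 5 5 3 1 l = true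
  | 0, _ => c5x3x0
  | _ + 1, h => absurd h (by omega)

theorem s5x4 : ∀ l, l < 1 → run3 9 acc10 13 5 5 4 1 l = true
  | 0, _ => c5x4x0
  | _ + 1, h => absurd h (by omega)

theorem r5 : ∀ j, j < 5 → ∃ n3, 0 < n3 ∧ ∀ l, l < n3 → run3 9 acc10 13 5 5 j n3 l = true
  | 0, _ => ⟨1, by decide, s5x0⟩
  | 1, _ => ⟨1, by decide, s5x1⟩
  | 2, _ => ⟨1, by decide, s5x2⟩
  | 3, _ => ⟨1, by decide, s5x3⟩
  | 4, _ => ⟨1, by decide, s5x4⟩
  | _ + 5, h => absurd h (by omega)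

theorem s6x0 : ∀ l, l < 1 → run3 9 acc10 13 6 3 0 1 l = true
  | 0, _ => c6x0x0
  | _ + 1, h => absurd h (by omega)

theorem s6x1 : ∀ l, l < 1 → run3 9 acc10 13 6 3 1 1 l = true
  | 0, _ => c6x1x0
  | _ + 1, h => absurd h (by omega)

theorem s6x2 : ∀ l, l < 1 → run3 9 acc10 13 6 3 2 1 l = true
  | 0, _ => c6x2x0
  | _ + 1, h => absurd h (by omega)

theorem r6 : ∀ j, j < 3 → ∃ n3, 0 < n3 ∧ ∀ l, l < n3 → run3 9 acc10 13 6 3 j n3 l = true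
  | 0, _ => ⟨1, by decide, s6x0⟩
  | 1, _ => ⟨1, by decide, s6x1⟩
  | 2, _ => ⟨1, by decide, s6x2⟩
  | _ + 3, h => absurd h (by omega)

theorem s7x0 : ∀ l, l < 1 → run3 9 acc10 13 7 3 0 1 l = true
  | 0, _ => c7x0x0
  | _ + 1, h => absurd h (by omega)

theorem s7x1 : ∀ l, l < 1 → run3 9 acc10 13 7 3 1 1 l = true
  | 0, _ => c7x1x0
  | _ + 1, h => absurd h (by omega)

theorem s7x2 : ∀ l, l < 1 → run3 9 acc10 13 7 3 2 1 l = true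
  | 0, _ => c7x2x0
  | _ + 1, h => absurd h (by omega)

theorem r7 : ∀ j, j < 3 → ∃ n3, 0 < n3 ∧ ∀ l, l < n3 → run3 9 acc10 13 7 3 j n3 l = true
  | 0, _ => ⟨1, by decide, s7x0⟩
  | 1, _ => ⟨1, by decide, s7x1⟩
  | 2, _ => ⟨1, by decide, s7x2⟩
  | _ + 3, h => absurd h (by omega)

theorem s8x0 : ∀ l, l < 1 → run3 9 acc10 13 8 5 0 1 l = true
  | 0, _ => c8x0x0
  | _ + 1, h => absurd h (by omega)

theorem s8x1 : ∀ l, l < 1 → run3 9 acc10 13 8 5 1 1 l = true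
  | 0, _ => c8x1x0
  | _ + 1, h => absurd h (by omega)

theorem s8x2 : ∀ l, l < 1 → run3 9 acc10 13 8 5 2 1 l = true
  | 0, _ => c8x2x0
  | _ + 1, h => absurd h (by omega)

theorem s8x3 : ∀ l, l < 1 → run3 9 acc10 13 8 5 3 1 l = true
  | 0, _ => c8x3x0
  | _ + 1, h => absurd h (by omega)

theorem s8x4 : ∀ l, l < 1 → run3 9 acc10 13 8 5 4 1 l = true
  | 0, _ => c8x4x0
  | _ + 1, h => absurd h (by omega)

theorem r8 : ∀ j, j < 5 → ∃ n3, 0 < n3 ∧ ∀ l, l < n3 → run3 9 acc10 13 8 5 j n3 l = true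
  | 0, _ => ⟨1, by decide, s8x0⟩
  | 1, _ => ⟨1, by decide, s8x1⟩
  | 2, _ => ⟨1, by decide, s8x2⟩
  | 3, _ => ⟨1, by decide, s8x3⟩
  | 4, _ => ⟨1, by decide, s8x4⟩
  | _ + 5, h => absurd h (by omega)

theorem s9x0 : ∀ l, l < 1 → run3 9 acc10 13 9 13 0 1 l = true
  | 0, _ => c9x0x0
  | _ + 1, h => absurd h (by omega)

theorem s9x1 : ∀ l, l < 1 → run3 9 acc10 13 9 13 1 1 l = true
  | 0, _ => c9x1x0
  | _ + 1, h => absurd h (by omega)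

theorem s9x2 : ∀ l, l < 1 → run3 9 acc10 13 9 13 2 1 l = true
  | 0, _ => c9x2x0
  | _ + 1, h => absurd h (by omega)

theorem s9x3 : ∀ l, l < 1 → run3 9 acc10 13 9 13 3 1 l = true
  | 0, _ => c9x3x0
  | _ + 1, h => absurd h (by omega)

theorem s9x4 : ∀ l, l < 1 → run3 9 acc10 13 9 13 4 1 l = true
  | 0, _ => c9x4x0
  | _ + 1, h => absurd h (by omega)

theorem s9x5 : ∀ l, l < 1 → run3 9 acc10 13 9 13 5 1 l = true
  | 0, _ => c9x5x0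
  | _ + 1, h => absurd h (by omega)

theorem s9x6 : ∀ l, l < 1 → run3 9 acc10 13 9 13 6 1 l = true
  | 0, _ => c9x6x0
  | _ + 1, h => absurd h (by omega)

theorem s9x7 : ∀ l, l < 1 → run3 9 acc10 13 9 13 7 1 l = true
  | 0, _ => c9x7x0
  | _ + 1, h => absurd h (by omega)

theorem s9x8 : ∀ l, l < 1 → run3 9 acc10 13 9 13 8 1 l = true
  | 0, _ => c9x8x0
  | _ + 1, h => absurd h (by omega)

theorem s9x9 : ∀ l, l < 1 → run3 9 acc10 13 9 13 9 1 l = true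
  | 0, _ => c9x9x0
  | _ + 1, h => absurd h (by omega)

theorem s9x10 : ∀ l, l < 1 → run3 9 acc10 13 9 13 10 1 l = true
  | 0, _ => c9x10x0
  | _ + 1, h => absurd h (by omega)

theorem s9x11 : ∀ l, l < 1 → run3 9 acc10 13 9 13 11 1 l = true
  | 0, _ => c9x11x0
  | _ + 1, h => absurd h (by omega)

theorem s9x12 : ∀ l, l < 1 → run3 9 acc10 13 9 13 12 1 l = true
  | 0, _ => c9x12x0
  | _ + 1, h => absurd h (by omega)

theorem r9 : ∀ j, j < 13 → ∃ n3, 0 < n3 ∧ ∀ l, l < n3 → run3 9 acc10 13 9 13 j n3 l = true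
  | 0, _ => ⟨1, by decide, s9x0⟩
  | 1, _ => ⟨1, by decide, s9x1⟩
  | 2, _ => ⟨1, by decide, s9x2⟩
  | 3, _ => ⟨1, by decide, s9x3⟩
  | 4, _ => ⟨1, by decide, s9x4⟩
  | 5, _ => ⟨1, by decide, s9x5⟩
  | 6, _ => ⟨1, by decide, s9x6⟩
  | 7, _ => ⟨1, by decide, s9x7⟩
  | 8, _ => ⟨1, by decide, s9x8⟩
  | 9, _ => ⟨1, by decide, s9x9⟩
  | 10, _ => ⟨1, by decide, s9x10⟩
  | 11, _ => ⟨1, by decide, s9x11⟩
  | 12, _ => ⟨1, by decide, s9x12⟩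
  | _ + 13, h => absurd h (by omega)

theorem s10x0 : ∀ l, l < 1 → run3 9 acc10 13 10 9 0 1 l = true
  | 0, _ => c10x0x0
  | _ + 1, h => absurd h (by omega)

theorem s10x1 : ∀ l, l < 1 → run3 9 acc10 13 10 9 1 1 l = true
  | 0, _ => c10x1x0
  | _ + 1, h => absurd h (by omega)

theorem s10x2 : ∀ l, l < 1 → run3 9 acc10 13 10 9 2 1 l = true
  | 0, _ => c10x2x0
  | _ + 1, h => absurd h (by omega)

theorem s10x3 : ∀ l, l < 1 → run3 9 acc10 13 10 9 3 1 l = true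
  | 0, _ => c10x3x0
  | _ + 1, h => absurd h (by omega)

theorem s10x4 : ∀ l, l < 1 → run3 9 acc10 13 10 9 4 1 l = true
  | 0, _ => c10x4x0
  | _ + 1, h => absurd h (by omega)

theorem s10x5 : ∀ l, l < 3 → run3 9 acc10 13 10 9 5 3 l = true
  | 0, _ => c10x5x0
  | 1, _ => c10x5x1
  | 2, _ => c10x5x2
  | _ + 3, h => absurd h (by omega)

theorem s10x6 : ∀ l, l < 1 → run3 9 acc10 13 10 9 6 1 l = true
  | 0, _ => c10x6x0
  | _ + 1, h => absurd h (by omega)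

theorem s10x7 : ∀ l, l < 1 → run3 9 acc10 13 10 9 7 1 l = true
  | 0, _ => c10x7x0
  | _ + 1, h => absurd h (by omega)

theorem s10x8 : ∀ l, l < 1 → run3 9 acc10 13 10 9 8 1 l = true
  | 0, _ => c10x8x0
  | _ + 1, h => absurd h (by omega)

theorem r10 : ∀ j, j < 9 → ∃ n3, 0 < n3 ∧ ∀ l, l < n3 → run3 9 acc10 13 10 9 j n3 l = true
  | 0, _ => ⟨1, by decide, s10x0⟩
  | 1, _ => ⟨1, by decide, s10x1⟩
  | 2, _ => ⟨1, by decide, s10x2⟩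
  | 3, _ => ⟨1, by decide, s10x3⟩
  | 4, _ => ⟨1, by decide, s10x4⟩
  | 5, _ => ⟨3, by decide, s10x5⟩
  | 6, _ => ⟨1, by decide, s10x6⟩
  | 7, _ => ⟨1, by decide, s10x7⟩
  | 8, _ => ⟨1, by decide, s10x8⟩
  | _ + 9, h => absurd h (by omega)

theorem s11x0 : ∀ l, l < 1 → run3 9 acc10 13 11 5 0 1 l = true
  | 0, _ => c11x0x0
  | _ + 1, h => absurd h (by omega)

theorem s11x1 : ∀ l, l < 1 → run3 9 acc10 13 11 5 1 1 l = true
  | 0, _ => c11x1x0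
  | _ + 1, h => absurd h (by omega)

theorem s11x2 : ∀ l, l < 1 → run3 9 acc10 13 11 5 2 1 l = true
  | 0, _ => c11x2x0
  | _ + 1, h => absurd h (by omega)

theorem s11x3 : ∀ l, l < 1 → run3 9 acc10 13 11 5 3 1 l = true
  | 0, _ => c11x3x0
  | _ + 1, h => absurd h (by omega)

theorem s11x4 : ∀ l, l < 1 → run3 9 acc10 13 11 5 4 1 l = true
  | 0, _ => c11x4x0
  | _ + 1, h => absurd h (by omega)

theorem r11 : ∀ j, j < 5 → ∃ n3, 0 < n3 ∧ ∀ l, l < n3 → run3 9 acc10 13 11 5 j n3 l = true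
  | 0, _ => ⟨1, by decide, s11x0⟩
  | 1, _ => ⟨1, by decide, s11x1⟩
  | 2, _ => ⟨1, by decide, s11x2⟩
  | 3, _ => ⟨1, by decide, s11x3⟩
  | 4, _ => ⟨1, by decide, s11x4⟩
  | _ + 5, h => absurd h (by omega)

theorem s12x0 : ∀ l, l < 1 → run3 9 acc10 13 12 7 0 1 l = true
  | 0, _ => c12x0x0
  | _ + 1, h => absurd h (by omega)

theorem s12x1 : ∀ l, l < 1 → run3 9 acc10 13 12 7 1 1 l = true
  | 0, _ => c12x1x0
  | _ + 1, h => absurd h (by omega)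

theorem s12x2 : ∀ l, l < 1 → run3 9 acc10 13 12 7 2 1 l = true
  | 0, _ => c12x2x0
  | _ + 1, h => absurd h (by omega)

theorem s12x3 : ∀ l, l < 1 → run3 9 acc10 13 12 7 3 1 l = true
  | 0, _ => c12x3x0
  | _ + 1, h => absurd h (by omega)

theorem s12x4 : ∀ l, l < 1 → run3 9 acc10 13 12 7 4 1 l = true
  | 0, _ => c12x4x0
  | _ + 1, h => absurd h (by omega)

theorem s12x5 : ∀ l, l < 1 → run3 9 acc10 13 12 7 5 1 l = true
  | 0, _ => c12x5x0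
  | _ + 1, h => absurd h (by omega)

theorem s12x6 : ∀ l, l < 1 → run3 9 acc10 13 12 7 6 1 l = true
  | 0, _ => c12x6x0
  | _ + 1, h => absurd h (by omega)

theorem r12 : ∀ j, j < 7 → ∃ n3, 0 < n3 ∧ ∀ l, l < n3 → run3 9 acc10 13 12 7 j n3 l = true
  | 0, _ => ⟨1, by decide, s12x0⟩
  | 1, _ => ⟨1, by decide, s12x1⟩
  | 2, _ => ⟨1, by decide, s12x2⟩
  | 3, _ => ⟨1, by decide, s12x3⟩
  | 4, _ => ⟨1, by decide, s12x4⟩
  | 5, _ => ⟨1, by decide, s12x5⟩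
  | 6, _ => ⟨1, by decide, s12x6⟩
  | _ + 7, h => absurd h (by omega)

theorem all1 : ∀ i, i < 13 → ∃ n2, 0 < n2 ∧ ∀ j, j < n2 → ∃ n3, 0 < n3 ∧ ∀ l, l < n3 → run3 9 acc10 13 i n2 j n3 l = true
  | 0, _ => ⟨7, by decide, r0⟩
  | 1, _ => ⟨5, by decide, r1⟩
  | 2, _ => ⟨7, by decide, r2⟩
  | 3, _ => ⟨5, by decide, r3⟩
  | 4, _ => ⟨7, by decide, r4⟩
  | 5, _ => ⟨5, by decide, r5⟩
  | 6, _ => ⟨3, by decide, r6⟩
  | 7, _ => ⟨3, by decide, r7⟩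
  | 8, _ => ⟨5, by decide, r8⟩
  | 9, _ => ⟨13, by decide, r9⟩
  | 10, _ => ⟨9, by decide, r10⟩
  | 11, _ => ⟨5, by decide, r11⟩
  | 12, _ => ⟨7, by decide, r12⟩
  | _ + 13, h => absurd h (by omega)

theorem all : Done 9 acc10 := ⟨13, by decide, all1⟩

end Cfsg.Agent.KC.R10
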